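import Groth.Agent.SGA3cLib.HomScheme
import Groth.Agent.Split8.Main
import Groth.Agent.Et18.Descent
import Groth.Prelude.Def_FEt
import Mathlib.AlgebraicGeometry.Morphisms.LocalFlatDescent

/-!
The scheme of morphisms between two finite étale covers is finite étale.
-/

set_option autoImplicit false
set_option linter.style.haveILetI false
set_option backward.isDefEq.respectTransparency.types false

universe u

open CategoryTheory Limits MonoidalCategory CartesianMonoidalCategory AlgebraicGeometry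

namespace Groth.Agent.FEtHom10

variable {X : Scheme.{u}}

/-- Finite powers of a finite étale scheme. -/
theorem exists_pow (V : Over X) [IsFinite V.hom] [Etale V.hom] (n : ℕ) :
    ∃ (W : Over X) (pr : Fin n → (W ⟶ V)), IsFinite W.hom ∧ Etale W.hom ∧
      ∀ (A : Over X) (a : Fin n → (A ⟶ V)), ∃! w : A ⟶ W, ∀ i, w ≫ pr i = a i := by
  induction n with
  | zero =>
    refine ⟨𝟙_ _, fun i => i.elim0, inferInstanceAs (IsFinite (𝟙 X)), inferInstanceAs (Etale (𝟙 X)),
      fun A a => ⟨toUnit A, fun i => i.elim0, fun w _ => toUnit_unique _ _⟩⟩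
  | succ n ih =>
    obtain ⟨W, pr, hW, hW', h⟩ := ih
    refine ⟨W ⊗ V, Fin.cons (snd W V) fun i => fst W V ≫ pr i, ?_, ?_, fun A a => ?_⟩
    · exact MorphismProperty.comp_mem _ (pullback.fst W.hom V.hom) W.hom
        (MorphismProperty.pullback_fst _ _ ‹IsFinite V.hom›) hW
    · exact MorphismProperty.comp_mem _ (pullback.fst W.hom V.hom) W.hom
        (MorphismProperty.pullback_fst _ _ ‹Etale V.hom›) hW'
    · obtain ⟨w, hw, huniq⟩ := h A fun i => a i.succ
      refine ⟨lift w (a 0), Fin.cases (by simp) fun i => by simp [hw i], fun w' hw' => ?_⟩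
      apply CartesianMonoidalCategory.hom_ext
      · rw [lift_fst]
        exact huniq _ fun i => by simpa using hw' i.succ
      · rw [lift_snd]
        simpa using hw' 0

/-- The sections defined by `σ` over an object over `T`. -/
noncomputable abbrev sect {U T A : Over X} (σ : T ⟶ U) (q : A ⟶ T) : A ⟶ U ⊗ A := lift (q ≫ σ) (𝟙 A)

/-- A base change to which `U` splits into `n` pieces. -/
theorem sect_cofan {U T : Over X} [IsFinite U.hom] [Etale U.hom] {n : ℕ} (σ : Fin n → (T ⟶ U))
    (hn : ∀ t : T.left, U.hom.finrank (T.hom t) = n)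
    (hinj : ∀ (Ω : Type u) [Field Ω] [IsSepClosed Ω] (η : Spec (CommRingCat.of Ω) ⟶ T.left),
      Function.Injective fun i => η ≫ (σ i).left)
    {A V : Over X} (q : A ⟶ T) (a : Fin n → (A ⟶ V)) :
    ∃! φ : U ⊗ A ⟶ V, ∀ i, sect (σ i) q ≫ φ = a i := by
  let P : Scheme.{u} := (U ⊗ A).left
  let p : P ⟶ A.left := pullback.snd U.hom A.hom
  haveI : IsFinite p := MorphismProperty.pullback_snd _ _ ‹IsFinite U.hom›
  haveI : Etale p := MorphismProperty.pullback_snd _ _ ‹Etale U.hom›
  let s : Fin n → FEtSect.Sect p := fun i => ⟨(sect (σ i) q).left, by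
    show (sect (σ i) q ≫ snd U A).left = _
    rw [lift_snd]
    rfl⟩
  haveI : ∀ i, IsOpenImmersion (s i).1 := fun i => FEtSect.isOpenImmersion_sect (s i)
  have hs : ∀ i, (s i).1 ≫ pullback.fst U.hom A.hom = q.left ≫ (σ i).left := fun i => by
    show (sect (σ i) q ≫ fst U A).left = _
    rw [lift_fst]
    rfl
  obtain ⟨hc⟩ := nonempty_isColimit_cofanMk_of (X := fun _ : Fin n => A.left) (fun i => (s i).1) (by
      refine eq_top_iff.2 fun z _ => ?_
      obtain ⟨Ω, _, _, ζ, hζ⟩ := FEtSect.exists_geomPoint z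
      let η := ζ ≫ p
      obtain ⟨hfin, hcard, -⟩ := Et18.card_pointLift U.hom (η ≫ A.hom)
      let g : Fin n → Et18.PointLift U.hom (η ≫ A.hom) := fun i =>
        ⟨(η ≫ q.left) ≫ (σ i).left, by rw [Category.assoc, Over.w, Category.assoc, Over.w]⟩
      have hgi : Function.Injective g := fun i j h =>
        hinj Ω (η ≫ q.left) (congrArg Subtype.val h)
      have hb := hgi.bijective_of_nat_card_le (by
        rw [hcard, Nat.card_eq_fintype_card, Fintype.card_fin, ← Over.w q, ← Category.assoc,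
          Scheme.Hom.comp_apply]
        exact (hn _).le)
      obtain ⟨i, hi⟩ := hb.2 ⟨ζ ≫ pullback.fst U.hom A.hom, by
        rw [Category.assoc, pullback.condition, ← Category.assoc]⟩
      refine TopologicalSpace.Opens.mem_iSup.2 ⟨i, η (IsLocalRing.closedPoint Ω), ?_⟩
      rw [← Scheme.Hom.comp_apply, show η ≫ (s i).1 = ζ from ?_]
      · exact hζ _
      · apply pullback.hom_ext
        · rw [Category.assoc, hs]
          exact (Category.assoc _ _ _).symm.trans (congrArg Subtype.val hi)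
        · rw [Category.assoc, show (s i).1 ≫ pullback.snd U.hom A.hom = 𝟙 _ from (s i).2,
            Category.comp_id])
    (by
      intro i j hij
      rw [Function.onFun, disjoint_iff]
      refine TopologicalSpace.Opens.ext (Set.eq_empty_iff_forall_notMem.2 ?_)
      rintro z ⟨hzi, hzj⟩
      obtain ⟨Ω, _, _, ζ, hζ⟩ := FEtSect.exists_geomPoint z
      have key : ∀ k, z ∈ (s k).1.opensRange → ζ = (ζ ≫ p) ≫ (s k).1 := fun k hk => by
        have h1 := IsOpenImmersion.lift_fac (s k).1 ζ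
          (by rintro _ ⟨w, rfl⟩; rw [hζ]; exact hk)
        conv_rhs => rw [← h1, Category.assoc _ (s k).1 p, (s k).2, Category.comp_id]
        exact h1.symm
      refine hij (hinj Ω ((ζ ≫ p) ≫ q.left) ?_)
      show _ ≫ (σ i).left = _ ≫ (σ j).left
      rw [Category.assoc (ζ ≫ p), Category.assoc (ζ ≫ p), ← hs, ← hs, ← Category.assoc (ζ ≫ p),
        ← Category.assoc (ζ ≫ p) (s j).1, ← key i hzi, ← key j hzj])
  refine ⟨Over.homMk (Cofan.IsColimit.desc hc fun i => (a i).left) (Cofan.IsColimit.hom_ext hc _ _ fun i => ?_),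
    fun i => Over.OverMorphism.ext (Cofan.IsColimit.fac hc _ i), fun φ hφ => ?_⟩
  · simp only [cofan_mk_inj]
    show (s i).1 ≫ Cofan.IsColimit.desc hc _ ≫ V.hom = (sect (σ i) q).left ≫ (U ⊗ A).hom
    rw [Over.w (sect (σ i) q), ← Category.assoc,
      show (s i).1 ≫ Cofan.IsColimit.desc hc (fun i => (a i).left) = (a i).left from
        Cofan.IsColimit.fac hc (fun i => (a i).left) i, Over.w]
  · refine Over.OverMorphism.ext (Cofan.IsColimit.hom_ext hc _ _ fun i => ?_)
    exact (congrArg CommaMorphism.left (hφ i)).trans (Cofan.IsColimit.fac hc (fun i => (a i).left) i).symm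

/-- After a base change splitting `U`, the scheme of morphisms is a power of `V`. -/
theorem finiteEtale_snd {U V M T : Over X} [IsFinite U.hom] [Etale U.hom] [IsFinite V.hom] [Etale V.hom]
    (ev : U ⊗ M ⟶ V) (huniv : ∀ (A : Over X) (φ : U ⊗ A ⟶ V), ∃! v : A ⟶ M, (U ◁ v) ≫ ev = φ)
    {n : ℕ} (σ : Fin n → (T ⟶ U)) (hn : ∀ t : T.left, U.hom.finrank (T.hom t) = n)
    (hinj : ∀ (Ω : Type u) [Field Ω] [IsSepClosed Ω] (η : Spec (CommRingCat.of Ω) ⟶ T.left),
      Function.Injective fun i => η ≫ (σ i).left) :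
    IsFinite (pullback.snd M.hom T.hom) ∧ Etale (pullback.snd M.hom T.hom) := by
  obtain ⟨W, pr, hWf, hWe, hW⟩ := exists_pow V n
  have cof : ∀ {A : Over X} (q : A ⟶ T) (a : Fin n → (A ⟶ V)),
      ∃! φ : U ⊗ A ⟶ V, ∀ i, sect (σ i) q ≫ φ = a i := fun q a => sect_cofan σ hn hinj q a
  have nat : ∀ {A B : Over X} (b : A ⟶ B) (q : B ⟶ T) (i : Fin n),
      sect (σ i) (b ≫ q) ≫ (U ◁ b) = b ≫ sect (σ i) q := fun b q i => by
    apply CartesianMonoidalCategory.hom_ext <;> simp [sect]
  obtain ⟨θ, hθ, -⟩ := hW (M ⊗ T) fun i => sect (σ i) (snd M T) ≫ (U ◁ fst M T) ≫ ev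
  obtain ⟨φ, hφ, -⟩ := cof (snd W T) fun i => fst W T ≫ pr i
  obtain ⟨ξ, hξ, -⟩ := huniv _ φ
  let Θ : M ⊗ T ⟶ W ⊗ T := lift θ (snd M T)
  let Ξ : W ⊗ T ⟶ M ⊗ T := lift ξ (snd W T)
  have hΘ : Θ ≫ snd W T = snd M T := lift_snd _ _
  have hΞ : Ξ ≫ snd M T = snd W T := lift_snd _ _
  have h1 : Θ ≫ Ξ = 𝟙 _ := by
    apply CartesianMonoidalCategory.hom_ext
    · rw [Category.assoc, lift_fst, Category.id_comp]
      refine (huniv _ ((U ◁ fst M T) ≫ ev)).unique ?_ rfl
      refine (cof (snd M T) (fun i => sect (σ i) (snd M T) ≫ (U ◁ fst M T) ≫ ev)).unique (fun i => ?_)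
        (fun i => rfl)
      rw [MonoidalCategory.whiskerLeft_comp, Category.assoc, hξ, ← hΘ, ← Category.assoc, nat,
        Category.assoc, hφ, lift_fst_assoc, hθ, hΘ]
    · rw [Category.assoc, hΞ, hΘ, Category.id_comp]
  have h2 : Ξ ≫ Θ = 𝟙 _ := by
    apply CartesianMonoidalCategory.hom_ext
    · rw [Category.assoc, lift_fst, Category.id_comp]
      refine (hW _ fun i => fst W T ≫ pr i).unique (fun i => ?_) fun i => rfl
      rw [Category.assoc, hθ, ← Category.assoc, ← nat, Category.assoc, hΞ, ← hφ i, ← hξ,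
        ← MonoidalCategory.whiskerLeft_comp_assoc, lift_fst]
    · rw [Category.assoc, hΘ, hΞ, Category.id_comp]
  haveI : IsIso Θ := ⟨Ξ, h1, h2⟩
  haveI : IsIso Θ.left := inferInstanceAs (IsIso ((Over.forget X).map Θ))
  have e : Θ.left ≫ pullback.snd W.hom T.hom = pullback.snd M.hom T.hom :=
    congrArg CommaMorphism.left hΘ
  rw [← e]
  exact ⟨MorphismProperty.RespectsIso.precomp @IsFinite Θ.left _ (MorphismProperty.pullback_snd _ _ hWf),
    MorphismProperty.RespectsIso.precomp @Etale Θ.left _ (MorphismProperty.pullback_snd _ _ hWe)⟩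

/-- The scheme of morphisms between finite étale schemes is finite étale. -/
theorem exists_internalHom (U V : Over X) [IsFinite U.hom] [Etale U.hom] [IsFinite V.hom] [Etale V.hom] :
    ∃ (M : Over X) (ev : U ⊗ M ⟶ V), IsFinite M.hom ∧ Etale M.hom ∧
      ∀ (A : Over X) (φ : U ⊗ A ⟶ V), ∃! v : A ⟶ M, (U ◁ v) ≫ ev = φ := by
  obtain ⟨M, ev, -, -, -, huniv⟩ := SGA3cLib.HomScheme.exists_homScheme U V
  haveI := Groth.Agent.Et18.descends_isFinite.{u}
  have key : ∀ (P : MorphismProperty Scheme.{u}) [IsZariskiLocalAtTarget P]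
      [P.DescendsAlong (@Surjective ⊓ @Flat ⊓ @QuasiCompact)],
      (∀ (T : Scheme.{u}) (g : T ⟶ X), IsFinite (pullback.snd M.hom g) ∧ Etale (pullback.snd M.hom g) →
        P (pullback.snd M.hom g)) → P M.hom := by
    intro P _ _ hP
    let O : ℕ → X.Opens := fun n =>
      ⟨U.hom.finrank ⁻¹' {n}, (Scheme.Hom.isLocallyConstant_finrank U.hom).isOpen_fiber n⟩
    rw [IsZariskiLocalAtTarget.iff_of_openCover (P := P) (X.openCoverOfIsOpenCover O
      (TopologicalSpace.IsOpenCover.mk (top_le_iff.1 fun x _ =>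
        TopologicalSpace.Opens.mem_iSup.2 ⟨U.hom.finrank x, rfl⟩)))]
    intro (n : ℕ)
    change P (pullback.snd M.hom (O n).ι)
    let φ := pullback.snd U.hom (O n).ι
    haveI : IsFinite φ := MorphismProperty.pullback_snd _ _ ‹IsFinite U.hom›
    haveI : Etale φ := MorphismProperty.pullback_snd _ _ ‹Etale U.hom›
    have hrk : ∀ o, φ.finrank o = n := fun o => by
      rw [Scheme.Hom.finrank_pullback_snd]
      exact o.2
    obtain ⟨T, τ, hτf, hτe, hτ, σ, hσ, hinj⟩ := Split8.exists_splitting n _ _ φ hrk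
    haveI := hτf
    haveI := hτe
    haveI : Surjective τ := (Scheme.Hom.one_le_finrank_iff_surjective τ).1 fun o => by
      rw [hτ o]
      exact Nat.factorial_pos n
    refine MorphismProperty.of_pullback_snd_of_descendsAlong (P := P)
      (Q := @Surjective ⊓ @Flat ⊓ @QuasiCompact) (g := τ)
      ⟨⟨inferInstance, inferInstance⟩, inferInstance⟩ ?_
    rw [← pullbackLeftPullbackSndIso_hom_snd, MorphismProperty.cancel_left_of_respectsIso P]
    let T' : Over X := Over.mk (τ ≫ (O n).ι)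
    let σ' : Fin n → (T' ⟶ U) := fun i => Over.homMk (σ i ≫ pullback.fst U.hom (O n).ι) (by
      show (σ i ≫ _) ≫ U.hom = τ ≫ (O n).ι
      rw [Category.assoc, pullback.condition, ← Category.assoc, hσ])
    refine hP T (τ ≫ (O n).ι) (finiteEtale_snd (T := T') ev huniv σ' (fun t => (τ t).2) ?_)
    intro Ω _ _ η i j h
    refine hinj Ω η (pullback.hom_ext ?_ ?_)
    · simpa [σ'] using h
    · show (η ≫ σ i) ≫ φ = (η ≫ σ j) ≫ φ
      rw [Category.assoc, Category.assoc, hσ, hσ]
  exact ⟨M, ev, key @IsFinite fun _ _ h => h.1, key @Etale fun _ _ h => h.2, huniv⟩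

end Groth.Agent.FEtHom10
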